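import Groth.Agent.PerfB.TildeExact
import Groth.Agent.PerfB.ExactRestrict
import Groth.Agent.CohqA.AffSec
import Groth.Agent.CohqB.QC2

/-!
# Morphisms of quasi-coherent modules over an affine open

`exists_mono_of_injective`: an injective linear map between the sections of two quasi-coherent
modules over an affine open `U` gives a monomorphism between their restrictions to `U`.
-/

set_option autoImplicit false
set_option linter.style.haveILetI false
universe u

open CategoryTheory CategoryTheory.Limits AlgebraicGeometry Opposite TopologicalSpace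

namespace K109.AffineHom

open AlgebraicGeometry.Scheme.Modules Groth.Agent.Fdesc.QCohStalk

variable {X : Scheme.{u}}

/-- A quasi-coherent module restricted to `Spec Γ(X, W)`, `W` affine open, is the module
associated with its sections over `W`. -/
noncomputable def restrictFromSpecIso (F : X.Modules) (hF : Coh.IsQCoh F) {W : X.Opens}
    (hW : IsAffineOpen W) :
    F.restrict hW.fromSpec ≅ tilde (R := Γ(X, W)) (ModuleCat.of Γ(X, W) Γ(F, W)) :=
  haveI : IsIso (F.restrict hW.fromSpec).fromTildeΓ :=
    (isQuasicoherent_iff_isIso_fromTildeΓ _).mp (restrict_isQCoh F hF _)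
  (asIso (F.restrict hW.fromSpec).fromTildeΓ).symm ≪≫
    (tilde.functor Γ(X, W)).mapIso (LinearEquiv.toModuleIso
      (X₁ := ((modulesSpecToSheaf.obj (F.restrict hW.fromSpec)).presheaf.obj (.op ⊤)))
      (X₂ := ModuleCat.of Γ(X, W) Γ(F, W))
      (Groth.Agent.CohqA.AffSec.secEquiv F hW))

theorem exists_mono_of_injective {U : X.Opens} (hU : IsAffineOpen U) (G F : X.Modules)
    (hG : Coh.IsQCoh G) (hF : Coh.IsQCoh F) (g : Γ(G, U) →ₗ[Γ(X, U)] Γ(F, U))
    (hg : Function.Injective g) :
    ∃ φ : (Scheme.Modules.pullback U.ι).obj G ⟶ (Scheme.Modules.pullback U.ι).obj F, Mono φ := by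
  let t : tilde (R := Γ(X, U)) (ModuleCat.of Γ(X, U) Γ(G, U)) ⟶
      tilde (R := Γ(X, U)) (ModuleCat.of Γ(X, U) Γ(F, U)) :=
    (tilde.functor Γ(X, U)).map (ModuleCat.ofHom g)
  have ht : Mono t := by
    have : Mono (ModuleCat.ofHom g) := (ModuleCat.mono_iff_injective _).mpr hg
    exact inferInstanceAs (Mono ((tilde.functor Γ(X, U)).map (ModuleCat.ofHom g)))
  let ψ : G.restrict hU.fromSpec ⟶ F.restrict hU.fromSpec :=
    (restrictFromSpecIso G hG hU).hom ≫ t ≫ (restrictFromSpecIso F hF hU).inv
  have hψ : Mono ψ := inferInstance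
  let ψ' : G.restrict U.ι ⟶ F.restrict U.ι :=
    (Groth.Agent.CohqB.QC2.restrictιIso G hU).inv ≫ (restrictFunctor hU.isoSpec.hom).map ψ ≫
      (Groth.Agent.CohqB.QC2.restrictιIso F hU).hom
  have hψ' : Mono ψ' := by
    have : Mono ((restrictFunctor hU.isoSpec.hom).map ψ) := inferInstance
    infer_instance
  exact ⟨((restrictFunctorIsoPullback U.ι).app G).inv ≫ ψ' ≫
    ((restrictFunctorIsoPullback U.ι).app F).hom, inferInstance⟩

end K109.AffineHom
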