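import Groth.Agent.AssSch.K109.Local
import Groth.Agent.S1576

/-!
# A neighbourhood of a maximal associated point

If `x` is a maximal associated point of a coherent module `F`, then near `x` every point of the
support is a specialization of `x`.
-/

set_option autoImplicit false
universe u

open CategoryTheory AlgebraicGeometry TopologicalSpace

namespace K109.Comp

open K109.Local

variable {X : Scheme.{u}}

/-- An affine neighbourhood of `x` has finitely many associated points; removing the closures of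
those which do not specialize to `x` gives a neighbourhood `V` of `x` such that every associated
point in `V` specializes to `x`. -/
theorem exists_nhds [IsLocallyNoetherian X] (F : X.Modules) (hF : Coh.IsCoh F) (x : X)
    (W : X.Opens) (hxW : x ∈ W) :
    ∃ V : X.Opens, V ≤ W ∧ x ∈ V ∧ ∀ y ∈ AssSch.Ass F, y ∈ V → y ⤳ x := by
  obtain ⟨_, ⟨A, hA, rfl⟩, hxA, hAW⟩ :=
    X.isBasis_affineOpens.exists_subset_of_mem_open hxW W.isOpen
  have hfin := Groth.Agent.S1576.result X F hF A hA.isCompact
  let T : Set X := {y | y ∈ {y : X | y ∈ A ∧ Curv2.IsAssPoint F y} ∧ ¬ y ⤳ x}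
  have hT : T.Finite := hfin.subset fun y hy => hy.1
  let C : Set X := ⋃ y ∈ T, closure {y}
  have hC : IsClosed C := hT.isClosed_biUnion fun y _ => isClosed_closure
  refine ⟨⟨(A : Set X) ∩ Cᶜ, A.isOpen.inter hC.isOpen_compl⟩, fun y hy => hAW hy.1,
    ⟨hxA, ?_⟩, ?_⟩
  · intro hxC
    obtain ⟨y, hy, hxy⟩ := Set.mem_iUnion₂.mp hxC
    exact hy.2 (specializes_iff_mem_closure.mpr hxy)
  · rintro y hy ⟨hyA, hyC⟩
    by_contra hn
    exact hyC (Set.mem_iUnion₂.mpr ⟨y, ⟨⟨hyA, hy⟩, hn⟩, subset_closure rfl⟩)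

/-- Near a maximal associated point `x` the support consists of specializations of `x`. -/
theorem exists_nhds_of_maximal [IsLocallyNoetherian X] (F : X.Modules) (hF : Coh.IsCoh F) (x : X)
    (hmax : ∀ y ∈ AssSch.Ass F, y ⤳ x → y = x) :
    ∃ V : X.Opens, x ∈ V ∧ ∀ z ∈ V, Nontrivial (F.presheaf.stalk z) → x ⤳ z := by
  obtain ⟨V, -, hxV, hV⟩ := exists_nhds F hF x ⊤ trivial
  refine ⟨V, hxV, fun z hz hz' => ?_⟩
  obtain ⟨y, hy, hyz⟩ := exists_mem_ass F hF.1 hz'
  have h1 := hmax y hy (hV y hy (hyz.mem_open V.isOpen hz))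
  rwa [h1] at hyz

end K109.Comp
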