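import Groth.Agent.AssSch.K109.IsoStalk
import Groth.Agent.Fdesc.StructMod
import Groth.Agent.CycB.StalkExact

/-!
# The condition `FibAss` (associated to the restriction to the fibre): formal properties
-/

set_option autoImplicit false
set_option linter.style.haveILetI false
universe u

open CategoryTheory CategoryTheory.Limits AlgebraicGeometry TensorProduct IsLocalRing

namespace K109.FibAss

open Groth.Agent Groth.Agent.Fdesc Groth.Agent.Fdesc.AssFlat Groth.Agent.Fdesc.AssFlatAlg
  Groth.Agent.Fdesc.PullbackStalk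

variable {X Y Z : Scheme.{u}}

/-- Associated points are invariant under isomorphism. -/
theorem mem_ass_of_iso {M N : X.Modules} (e : M ≅ N) (x : X) :
    x ∈ AssSch.Ass M ↔ x ∈ AssSch.Ass N := by
  constructor
  · intro h
    have h' : maximalIdeal (X.presheaf.stalk x) ∈
      associatedPrimes (X.presheaf.stalk x) (M.presheaf.stalk x) := h
    exact associatedPrimes.subset_of_injective (CycB.StalkExact.stalkLin_injective e.hom x) h'
  · intro h
    have h' : maximalIdeal (X.presheaf.stalk x) ∈
      associatedPrimes (X.presheaf.stalk x) (N.presheaf.stalk x) := h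
    exact associatedPrimes.subset_of_injective (CycB.StalkExact.stalkLin_injective e.inv x) h'

/-- `M ⊗ O_X` has the associated points of `M`. -/
theorem mem_ass_tensor_structure_right (M : X.Modules) (x : X) :
    x ∈ AssSch.Ass (CohB1.tensorMod M (Coh.structureModule X)) ↔ x ∈ AssSch.Ass M := by
  have e := (tensorModStalk M (Coh.structureModule X) x).trans
    ((TensorProduct.congr (LinearEquiv.refl _ _) (StructMod.stalkEquiv x).symm).trans
      (TensorProduct.rid _ _))
  exact e.isAssociatedPrime_iff

/-- Associated points of the pull-back of the structure sheaf. -/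
theorem mem_ass_pullback_structure_iff (i : X ⟶ Y) (x : X) :
    x ∈ AssSch.Ass ((Scheme.Modules.pullback i).obj (Coh.structureModule Y)) ↔
      x ∈ AssSch.Ass (Coh.structureModule X) := by
  letI := PullbackStalk.stalkAlg i x
  have e := (PullbackStalk.stalkPullbackEquiv i (Coh.structureModule Y) x).symm.trans
    ((AlgebraTensorModule.congr (LinearEquiv.refl (X.presheaf.stalk x) (X.presheaf.stalk x))
      (StructMod.stalkEquiv (i.base x)).symm).trans
      ((AlgebraTensorModule.rid (Y.presheaf.stalk (i.base x)) (X.presheaf.stalk x)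
        (X.presheaf.stalk x)).trans (StructMod.stalkEquiv x)))
  exact e.isAssociatedPrime_iff

/-- The structure sheaf of a flat scheme is flat over the base. -/
theorem isFlatOver_structureModule (π : X ⟶ Y) [Flat π] :
    FlatMod.IsFlatOver π (Coh.structureModule X) := by
  intro x
  letI := PullbackStalk.stalkAlg π x
  letI := FlatMod.moduleStalkOver π (Coh.structureModule X) x
  haveI := PullbackStalk.isScalarTower π (Coh.structureModule X) x
  haveI : Module.Flat (Y.presheaf.stalk (π.base x)) (X.presheaf.stalk x) := Flat.stalkMap π x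
  exact Module.Flat.of_linearEquiv
    ((StructMod.stalkEquiv x).restrictScalars (Y.presheaf.stalk (π.base x))).symm

/-- The ideal of the fibre does not change when the base is replaced by a scheme in which it embeds
(the stalk map being surjective). -/
theorem map_maximalIdeal_comp (h : X ⟶ Y) (i : Y ⟶ Z) (x : X)
    (hs : Function.Surjective (i.stalkMap (h x)).hom) :
    (maximalIdeal (Z.presheaf.stalk ((h ≫ i) x))).map ((h ≫ i).stalkMap x).hom =
      (maximalIdeal (Y.presheaf.stalk (h x))).map (h.stalkMap x).hom := by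
  have h1 : ((h ≫ i).stalkMap x).hom = (h.stalkMap x).hom.comp (i.stalkMap (h x)).hom := by
    rw [Scheme.Hom.stalkMap_comp]; rfl
  have h2 : (maximalIdeal (Z.presheaf.stalk (i (h x)))).map (i.stalkMap (h x)).hom =
      maximalIdeal (Y.presheaf.stalk (h x)) := by
    have h3 := Ideal.map_eq_top_or_isMaximal_of_surjective (i.stalkMap (h x)).hom hs
      (maximalIdeal.isMaximal (Z.presheaf.stalk (i (h x))))
    refine eq_maximalIdeal (h3.resolve_left fun h4 => ?_)
    have h5 := CycB.FiberKer.map_maximalIdeal_le i (h x)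
    rw [h4] at h5
    exact (maximalIdeal.isMaximal _).ne_top (top_le_iff.mp h5)
  rw [h1]
  refine Eq.trans (Ideal.map_map (I := maximalIdeal (Z.presheaf.stalk (i (h x))))
    (i.stalkMap (h x)).hom (h.stalkMap x).hom).symm ?_
  rw [h2]

theorem fibAss_comp_iff (h : X ⟶ Y) (i : Y ⟶ Z) (F : X.Modules) (x : X)
    (hs : Function.Surjective (i.stalkMap (h x)).hom) :
    FibAss (h ≫ i) F x ↔ FibAss h F x := by
  have e := map_maximalIdeal_comp h i x hs
  unfold FibAss
  change (maximalIdeal (X.presheaf.stalk x) ∈ associatedPrimes (X.presheaf.stalk x)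
    (F.presheaf.stalk x ⧸ (maximalIdeal (Z.presheaf.stalk ((h ≫ i) x))).map
      ((h ≫ i).stalkMap x).hom • (⊤ : Submodule (X.presheaf.stalk x) (F.presheaf.stalk x)))) ↔ _
  rw [e]

/-- In a base change `a : T → X` of `Spec κ(y) → Y` the points of `T` are the points of `X` over `y`,
and `t ∈ T` is associated to `O_T` iff `a t` is associated to the fibre of `X → Y`. -/
theorem mem_ass_iff_of_isPullback {T : Scheme.{u}} (φ : X ⟶ Y) (y : Y) {a : T ⟶ X}
    {b : T ⟶ Spec (Y.residueField y)} (H : IsPullback a b φ (Y.fromSpecResidueField y)) (t : T) :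
    t ∈ AssSch.Ass (Coh.structureModule T) ↔ FibAss φ (Coh.structureModule X) (a t) := by
  let e : T ≅ φ.fiber y := H.isoPullback
  have he : e.hom ≫ φ.fiberι y = a := H.isoPullback_hom_fst
  have h1 : e.hom t ∈ AssSch.Ass (Coh.structureModule (φ.fiber y)) ↔
      t ∈ AssSch.Ass (Coh.structureModule T) := by
    rw [← mem_ass_pullback_structure_iff e.hom t]
    exact (K109.IsoStalk.mem_ass_iff e.hom _ t
      (K109.IsoStalk.bijective_of_isOpenImmersion _ t)).symm
  rw [← h1, ← mem_ass_pullback_structure_iff (φ.fiberι y), mem_Ass_fiber_iff]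
  have h2 : φ.fiberι y (e.hom t) = a t := by rw [← he]; rfl
  rw [h2]

theorem exists_of_isPullback {T : Scheme.{u}} (φ : X ⟶ Y) (y : Y) {a : T ⟶ X}
    {b : T ⟶ Spec (Y.residueField y)} (H : IsPullback a b φ (Y.fromSpecResidueField y)) (x : X)
    (hx : φ x = y) : ∃ t : T, a t = x := by
  obtain ⟨z, hz⟩ := CycB.FiberKer.exists_fiberι_eq φ y x hx
  refine ⟨H.isoPullback.inv z, ?_⟩
  have h1 : H.isoPullback.inv ≫ a = φ.fiberι y := H.isoPullback_inv_fst
  rw [← hz, ← h1]
  rfl

theorem specializes_iff_of_isPullback {T : Scheme.{u}} (φ : X ⟶ Y) (y : Y) {a : T ⟶ X}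
    {b : T ⟶ Spec (Y.residueField y)} (H : IsPullback a b φ (Y.fromSpecResidueField y)) (t t' : T) :
    a t ⤳ a t' ↔ t ⤳ t' := by
  let e : T ≅ φ.fiber y := H.isoPullback
  have he : e.hom ≫ φ.fiberι y = a := H.isoPullback_hom_fst
  have h1 : ∀ t, a t = φ.fiberι y (e.hom t) := fun t => by
    conv_lhs => rw [← he]
    rfl
  rw [h1, h1, CycB.FiberKer.specializes_fiberι_iff]
  exact e.hom.isOpenEmbedding.isInducing.specializes_iff

theorem injective_of_isPullback {T : Scheme.{u}} (φ : X ⟶ Y) (y : Y) {a : T ⟶ X}
    {b : T ⟶ Spec (Y.residueField y)} (H : IsPullback a b φ (Y.fromSpecResidueField y)) :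
    Function.Injective a := by
  let e : T ≅ φ.fiber y := H.isoPullback
  have he : e.hom ≫ φ.fiberι y = a := H.isoPullback_hom_fst
  have h1 : ∀ t, a t = φ.fiberι y (e.hom t) := fun t => by
    conv_lhs => rw [← he]
    rfl
  intro t t' h
  rw [h1, h1] at h
  exact e.hom.isOpenEmbedding.injective (CycB.FiberKer.fiberι_injective φ y h)

end K109.FibAss
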