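import Mathlib.AlgebraicGeometry.Noetherian
import Mathlib.AlgebraicGeometry.Fiber
import Mathlib.AlgebraicGeometry.PullbackCarrier
import Mathlib.RingTheory.EssentialFiniteness

/-!
# Fibres of a morphism from a locally Noetherian scheme are locally Noetherian

No finiteness condition on the morphism and no condition on the target.
-/

set_option autoImplicit false
set_option linter.style.haveILetI false
universe u

open CategoryTheory CategoryTheory.Limits AlgebraicGeometry TopologicalSpace TensorProduct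

namespace K109.FibNoeth

variable {X Y : Scheme.{u}}

/-- A scheme with enough open immersions from locally Noetherian schemes is locally Noetherian. -/
theorem isLocallyNoetherian_of_forall (Z : Scheme.{u})
    (h : ∀ z : Z, ∃ (T : Scheme.{u}) (j : T ⟶ Z) (_ : IsOpenImmersion j) (_ : IsAffine T)
      (_ : IsLocallyNoetherian T), z ∈ Set.range j) : IsLocallyNoetherian Z := by
  choose T j hj hT hN hz using h
  refine isLocallyNoetherian_of_affine_cover (ι := Z)
    (S := fun z => ⟨(j z).opensRange, isAffineOpen_opensRange (j z)⟩) ?_ ?_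
  · rw [eq_top_iff]
    intro z _
    exact Opens.mem_iSup.mpr ⟨z, hz z⟩
  · intro z
    have h1 : IsNoetherianRing Γ(T z, ⊤) :=
      IsLocallyNoetherian.component_noetherian ⟨⊤, isAffineOpen_top (T z)⟩
    have e : Γ(T z, ⊤) ≅ Γ(Z, (j z) ''ᵁ ⊤) := ((j z).appIso ⊤).symm
    have h2 : (j z) ''ᵁ ⊤ = (j z).opensRange := (j z).image_top_eq_opensRange
    have h3 : IsNoetherianRing Γ(Z, (j z) ''ᵁ ⊤) :=
      isNoetherianRing_of_ringEquiv _ e.commRingCatIsoToRingEquiv
    change IsNoetherianRing Γ(Z, (j z).opensRange)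
    rw [← h2]
    exact h3

/-- The residue field at `y ∈ V` is essentially of finite type over `Γ(Y, V)`. -/
theorem essFiniteType_evaluation {V : Y.Opens} (hV : IsAffineOpen V) (y : Y) (hy : y ∈ V) :
    letI := (Y.evaluation V y hy).hom.toAlgebra
    Algebra.EssFiniteType Γ(Y, V) (Y.residueField y) := by
  letI := (Y.evaluation V y hy).hom.toAlgebra
  letI : Algebra Γ(Y, V) (Y.presheaf.stalk y) := (Y.presheaf.germ V y hy).hom.toAlgebra
  haveI := hV.isLocalization_stalk ⟨y, hy⟩
  haveI : Algebra.EssFiniteType Γ(Y, V) (Y.presheaf.stalk y) :=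
    Algebra.EssFiniteType.of_isLocalization _ (hV.primeIdealOf ⟨y, hy⟩).asIdeal.primeCompl
  letI : Algebra (Y.presheaf.stalk y) (Y.residueField y) := (Y.residue y).hom.toAlgebra
  haveI : IsScalarTower Γ(Y, V) (Y.presheaf.stalk y) (Y.residueField y) :=
    IsScalarTower.of_algebraMap_eq' rfl
  haveI : Algebra.EssFiniteType (Y.presheaf.stalk y) (Y.residueField y) := by
    have : Algebra.FiniteType (Y.presheaf.stalk y) (Y.residueField y) :=
      Algebra.FiniteType.of_surjective (Algebra.ofId _ _) (Y.residue_surjective y)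
    infer_instance
  exact Algebra.EssFiniteType.comp Γ(Y, V) (Y.presheaf.stalk y) (Y.residueField y)

theorem isLocallyNoetherian_fiber (f : X ⟶ Y) [IsLocallyNoetherian X] (y : Y) :
    IsLocallyNoetherian (f.fiber y) := by
  apply isLocallyNoetherian_of_forall
  intro z
  have hfz : f (f.fiberι y z) = y := by
    have : f.fiberι y z ∈ Set.range (f.fiberι y) := ⟨z, rfl⟩
    rw [f.range_fiberι] at this
    exact this
  obtain ⟨V, hV, hyV, -⟩ := exists_isAffineOpen_mem_and_subset (X := Y) (x := y) (U := ⊤) trivial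
  obtain ⟨U, hU, hzU, hUV⟩ := exists_isAffineOpen_mem_and_subset (X := X) (x := f.fiberι y z)
    (U := f ⁻¹ᵁ V) (by change f (f.fiberι y z) ∈ V; rw [hfz]; exact hyV)
  have hUV' : U ≤ f ⁻¹ᵁ V := hUV
  let g₀ : Spec (Y.residueField y) ⟶ Spec Γ(Y, V) := Spec.map (Y.evaluation V y hyV)
  have e₂ : g₀ ≫ hV.fromSpec = 𝟙 _ ≫ Y.fromSpecResidueField y := by
    rw [Category.id_comp, Scheme.fromSpecResidueField, ← hV.fromSpecStalk_eq_fromSpecStalk hyV,
      IsAffineOpen.fromSpecStalk, ← Spec.map_comp_assoc]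
    rfl
  let f₀ : Spec Γ(X, U) ⟶ Spec Γ(Y, V) := Spec.map (f.appLE V U hUV')
  have e₁ : f₀ ≫ hV.fromSpec = hU.fromSpec ≫ f := by
    exact IsAffineOpen.SpecMap_appLE_fromSpec f hV hU hUV'
  have hj : IsOpenImmersion (pullback.map f₀ g₀ f (Y.fromSpecResidueField y) hU.fromSpec (𝟙 _)
      hV.fromSpec e₁ e₂) := Scheme.pullback_map_isOpenImmersion ..
  have hr := Scheme.Pullback.range_map (f := f₀) (g := g₀) f (Y.fromSpecResidueField y) hU.fromSpec
    (𝟙 _) hV.fromSpec e₁ e₂
  refine ⟨pullback f₀ g₀, pullback.map f₀ g₀ f (Y.fromSpecResidueField y) hU.fromSpec (𝟙 _)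
      hV.fromSpec e₁ e₂, hj, inferInstance, ?_, ?_⟩
  · letI : Algebra Γ(Y, V) Γ(X, U) := (f.appLE V U hUV').hom.toAlgebra
    letI : Algebra Γ(Y, V) (Y.residueField y) := (Y.evaluation V y hyV).hom.toAlgebra
    haveI := essFiniteType_evaluation hV y hyV
    haveI : IsNoetherianRing Γ(X, U) := IsLocallyNoetherian.component_noetherian ⟨U, hU⟩
    haveI : IsNoetherianRing (Γ(X, U) ⊗[Γ(Y, V)] (Y.residueField y)) :=
      Algebra.EssFiniteType.isNoetherianRing Γ(X, U) _
    let e : pullback f₀ g₀ ≅ Spec (CommRingCat.of (Γ(X, U) ⊗[Γ(Y, V)] (Y.residueField y))) :=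
      pullbackSpecIso Γ(Y, V) Γ(X, U) (Y.residueField y)
    exact isLocallyNoetherian_of_isOpenImmersion e.hom
  · refine hr.ge ⟨?_, ?_⟩
    · change f.fiberι y z ∈ Set.range hU.fromSpec
      rw [hU.range_fromSpec]
      exact hzU
    · exact ⟨_, rfl⟩

end K109.FibNoeth
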