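import Groth.Agent.Fdesc.AssFlat

/-!
# Pull-back along a morphism whose stalk map is bijective

If `O_{Y,f x} → O_{X,x}` is bijective then the stalks of `f^* M` at `x` and of `M` at `f x` have
the same length, are nonzero simultaneously, and `x` is associated to `f^* M` iff `f x` is
associated to `M`.
-/

set_option autoImplicit false
set_option linter.style.haveILetI false
universe u

open CategoryTheory AlgebraicGeometry TensorProduct IsLocalRing

namespace K109.IsoStalk

open Groth.Agent.Fdesc Groth.Agent.Fdesc.AssFlatAlg Groth.Agent.Fdesc.PullbackStalk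

variable {X Y : Scheme.{u}} (f : X ⟶ Y) (M : Y.Modules) (x : X)

/-- If the stalk map is bijective, the stalk of the pull-back is the stalk. -/
noncomputable def stalkEquivOfBijective (h : Function.Bijective (f.stalkMap x).hom) :
    letI := FlatMod.moduleStalkOver f ((Scheme.Modules.pullback f).obj M) x
    ((Scheme.Modules.pullback f).obj M).presheaf.stalk x
      ≃ₗ[Y.presheaf.stalk (f.base x)] M.presheaf.stalk (f.base x) :=
  letI := stalkAlg f x
  letI := FlatMod.moduleStalkOver f ((Scheme.Modules.pullback f).obj M) x
  haveI := PullbackStalk.isScalarTower f ((Scheme.Modules.pullback f).obj M) x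
  let e : Y.presheaf.stalk (f.base x) ≃ₗ[Y.presheaf.stalk (f.base x)] X.presheaf.stalk x :=
    LinearEquiv.ofBijective (Algebra.linearMap _ _) h
  ((stalkPullbackEquiv f M x).symm.restrictScalars (Y.presheaf.stalk (f.base x))).trans
    ((TensorProduct.congr e.symm (LinearEquiv.refl _ _)).trans (TensorProduct.lid _ _))

theorem nontrivial_iff (h : Function.Bijective (f.stalkMap x).hom) :
    Nontrivial (((Scheme.Modules.pullback f).obj M).presheaf.stalk x) ↔
      Nontrivial (M.presheaf.stalk (f.base x)) := by
  letI := FlatMod.moduleStalkOver f ((Scheme.Modules.pullback f).obj M) x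
  exact (stalkEquivOfBijective f M x h).toEquiv.nontrivial_congr

theorem length_eq (h : Function.Bijective (f.stalkMap x).hom) :
    Module.length (X.presheaf.stalk x) (((Scheme.Modules.pullback f).obj M).presheaf.stalk x) =
      Module.length (Y.presheaf.stalk (f.base x)) (M.presheaf.stalk (f.base x)) := by
  letI := stalkAlg f x
  letI := FlatMod.moduleStalkOver f ((Scheme.Modules.pullback f).obj M) x
  haveI := PullbackStalk.isScalarTower f ((Scheme.Modules.pullback f).obj M) x
  rw [← (stalkEquivOfBijective f M x h).length_eq]
  exact (Module.length_eq_of_surjective (S := Y.presheaf.stalk (f.base x))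
    (R := X.presheaf.stalk x) (M := ((Scheme.Modules.pullback f).obj M).presheaf.stalk x)
    h.2).symm

theorem mem_ass_iff (h : Function.Bijective (f.stalkMap x).hom) :
    x ∈ AssSch.Ass ((Scheme.Modules.pullback f).obj M) ↔ f.base x ∈ AssSch.Ass M := by
  letI := stalkAlg f x
  letI := FlatMod.moduleStalkOver f ((Scheme.Modules.pullback f).obj M) x
  haveI := PullbackStalk.isScalarTower f ((Scheme.Modules.pullback f).obj M) x
  haveI : IsLocalHom (algebraMap (Y.presheaf.stalk (f.base x)) (X.presheaf.stalk x)) :=
    inferInstanceAs (IsLocalHom (f.stalkMap x).hom)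
  have h1 := comap_mem_associatedPrimes_iff (B := Y.presheaf.stalk (f.base x))
    (C := X.presheaf.stalk x)
    (N := ((Scheme.Modules.pullback f).obj M).presheaf.stalk x) h.2
    (maximalIdeal (X.presheaf.stalk x))
  have hc : (maximalIdeal (X.presheaf.stalk x)).comap
      (algebraMap (Y.presheaf.stalk (f.base x)) (X.presheaf.stalk x)) =
      maximalIdeal (Y.presheaf.stalk (f.base x)) :=
    ((IsLocalRing.local_hom_TFAE (algebraMap (Y.presheaf.stalk (f.base x))
      (X.presheaf.stalk x))).out 0 4 :
      IsLocalHom (algebraMap (Y.presheaf.stalk (f.base x)) _) ↔ _).mp this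
  rw [hc, LinearEquiv.AssociatedPrimes.eq (stalkEquivOfBijective f M x h)] at h1
  exact h1.symm

theorem bijective_of_isOpenImmersion [IsOpenImmersion f] :
    Function.Bijective (f.stalkMap x).hom :=
  ConcreteCategory.bijective_of_isIso (f.stalkMap x)

end K109.IsoStalk
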