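import Mathlib.RingTheory.Length
import Mathlib.RingTheory.Localization.AtPrime.Basic
import Mathlib.RingTheory.Localization.Module
import Mathlib.Algebra.Module.LocalizedModule.Basic

/-!
# The length of a localization does not change when the ring is replaced by a quotient

`length_localization_of_surjective`: for `B → A` surjective, an `A`-module `M` and a prime `p` of
`A` with contraction `P`, the length of `M_P` over `B_P` is the length of `M_p` over `A_p`.
-/

set_option autoImplicit false
set_option linter.style.haveILetI false
universe u v

namespace K109.LocLen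

variable {A : Type u} {B : Type v} [CommRing A] [CommRing B] [Algebra B A] {M : Type*}
  [AddCommGroup M] [Module A M] [Module B M] [IsScalarTower B A M]

/-- The localization of an `A`-module at a prime is its localization over `B` at the contracted
prime. -/
theorem isLocalizedModule_restrict (h : Function.Surjective (algebraMap B A)) (p : Ideal A)
    [p.IsPrime] (P : Ideal B) [P.IsPrime] (hP : P = p.comap (algebraMap B A))
    {M' : Type*} [AddCommGroup M'] [Module A M'] [Module B M'] [IsScalarTower B A M']
    (f : M →ₗ[A] M') [IsLocalizedModule p.primeCompl f] :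
    IsLocalizedModule P.primeCompl (f.restrictScalars B) := by
  have hmem : ∀ s : B, s ∈ P.primeCompl ↔ algebraMap B A s ∈ p.primeCompl := by
    intro s; subst hP; rfl
  refine ⟨?_, ?_, ?_⟩
  · rintro ⟨s, hs⟩
    have h1 := IsLocalizedModule.map_units f (⟨algebraMap B A s, (hmem s).mp hs⟩ : p.primeCompl)
    rw [Module.End.isUnit_iff] at h1 ⊢
    have h2 : (⇑(algebraMap B (Module.End B M') s) : M' → M') =
        ⇑(algebraMap A (Module.End A M') (algebraMap B A s)) := by
      funext m
      change s • m = algebraMap B A s • m
      rw [algebraMap_smul]
    change Function.Bijective (⇑(algebraMap B (Module.End B M') s) : M' → M')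
    rw [h2]
    exact h1
  · intro y
    obtain ⟨⟨m, s⟩, hs⟩ := IsLocalizedModule.surj p.primeCompl f y
    obtain ⟨b, hb⟩ := h s.1
    refine ⟨⟨m, ⟨b, (hmem b).mpr (hb ▸ s.2)⟩⟩, ?_⟩
    change b • y = f m
    rw [← hs, ← algebraMap_smul A b y, hb]
    rfl
  · intro a b hab
    obtain ⟨s, hs⟩ := IsLocalizedModule.exists_of_eq (S := p.primeCompl) (f := f) hab
    obtain ⟨c, hc⟩ := h s.1
    refine ⟨⟨c, (hmem c).mpr (hc ▸ s.2)⟩, ?_⟩
    change c • a = c • b
    rw [← algebraMap_smul A c a, ← algebraMap_smul A c b, hc]
    exact hs

theorem length_localization_of_surjective (h : Function.Surjective (algebraMap B A)) (p : Ideal A)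
    [p.IsPrime] (P : Ideal B) [P.IsPrime] (hP : P = p.comap (algebraMap B A)) :
    Module.length (Localization.AtPrime P) (LocalizedModule P.primeCompl M) =
      Module.length (Localization.AtPrime p) (LocalizedModule p.primeCompl M) := by
  subst hP
  letI algφ : Algebra (Localization.AtPrime (p.comap (algebraMap B A))) (Localization.AtPrime p) :=
    (Localization.localRingHom (p.comap (algebraMap B A)) p (algebraMap B A) rfl).toAlgebra
  letI : Module (Localization.AtPrime (p.comap (algebraMap B A)))
      (LocalizedModule p.primeCompl M) :=
    Module.compHom _ (Localization.localRingHom (p.comap (algebraMap B A)) p (algebraMap B A) rfl)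
  haveI : IsScalarTower (Localization.AtPrime (p.comap (algebraMap B A)))
      (Localization.AtPrime p) (LocalizedModule p.primeCompl M) := by
    refine ⟨fun r a m => ?_⟩
    rw [Algebra.smul_def, mul_smul]
    rfl
  haveI : IsScalarTower B (Localization.AtPrime (p.comap (algebraMap B A)))
      (LocalizedModule p.primeCompl M) := by
    refine ⟨fun r a m => ?_⟩
    rw [Algebra.smul_def, mul_smul]
    change Localization.localRingHom (p.comap (algebraMap B A)) p (algebraMap B A) rfl
      (algebraMap _ _ r) • (a • m) = r • (a • m)
    rw [Localization.localRingHom_to_map, algebraMap_smul, algebraMap_smul]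
  have hs : Function.Surjective (algebraMap (Localization.AtPrime (p.comap (algebraMap B A)))
      (Localization.AtPrime p)) := by
    intro y
    obtain ⟨⟨a, s⟩, rfl⟩ := IsLocalization.mk'_surjective p.primeCompl y
    obtain ⟨b, rfl⟩ := h a
    obtain ⟨c, hc⟩ := h s.1
    refine ⟨IsLocalization.mk' _ b (⟨c, fun hc' => s.2 (hc ▸ hc')⟩ :
      (p.comap (algebraMap B A)).primeCompl), ?_⟩
    change Localization.localRingHom (p.comap (algebraMap B A)) p (algebraMap B A) rfl _ = _
    rw [Localization.localRingHom_mk']
    congr 1
    exact Subtype.ext hc
  rw [← Module.length_eq_of_surjective (M := LocalizedModule p.primeCompl M) hs]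
  haveI := isLocalizedModule_restrict (B := B) h p _ rfl (LocalizedModule.mkLinearMap p.primeCompl M)
  have e : LocalizedModule (p.comap (algebraMap B A)).primeCompl M ≃ₗ[B]
      LocalizedModule p.primeCompl M :=
    IsLocalizedModule.iso (p.comap (algebraMap B A)).primeCompl
      ((LocalizedModule.mkLinearMap p.primeCompl M).restrictScalars B)
  exact (e.extendScalarsOfIsLocalization (p.comap (algebraMap B A)).primeCompl
    (Localization.AtPrime (p.comap (algebraMap B A)))).length_eq

end K109.LocLen
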