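import Groth.Agent.Fdesc.AssPoints
import Groth.Agent.CycB.StalkLoc
import Groth.Agent.CycB.LocQuot
import Mathlib.RingTheory.Support

/-!
# Associated points and support near a point, in terms of the stalk

For a point `x` of a locally Noetherian scheme and a generization `ξ ⤳ x` with prime `primeOf h`
of `O_{X,x}`:

* `mem_ass_iff`: `ξ ∈ Ass F ↔ (primeOf h).asIdeal ∈ associatedPrimes O_{X,x} F_x`;
* `nontrivial_iff`: `F_ξ ≠ 0 ↔ primeOf h ∈ Supp F_x`;
* `exists_mem_ass`: below a point of the support there is an associated point.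
-/

set_option autoImplicit false
set_option linter.style.haveILetI false
universe u

open CategoryTheory AlgebraicGeometry TopologicalSpace IsLocalRing

namespace K109.Local

open Groth.Agent.CycB Groth.Agent.CycB.StalkLoc Groth.Agent.CycB.LocQuot

variable {X : Scheme.{u}}

theorem comap_maximalIdeal_eq {x ξ : X} (h : ξ ⤳ x) :
    (maximalIdeal (X.presheaf.stalk ξ)).comap (X.presheaf.stalkSpecializes h).hom =
      (primeOf h).asIdeal := rfl

/-- `F_ξ` is the localization of `F_x` at the prime of `ξ`. -/
noncomputable def stalkLocEquiv (F : X.Modules) (hF : Coh.IsQCoh F) {x ξ : X} (h : ξ ⤳ x) :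
    letI := specMod F h
    LocalizedModule (primeOf h).asIdeal.primeCompl (F.presheaf.stalk x) ≃ₗ[X.presheaf.stalk x]
      F.presheaf.stalk ξ :=
  letI := specMod F h
  haveI : IsLocalizedModule (primeOf h).asIdeal.primeCompl (specLin F h) := by
    have h1 := isLocalizedModule_specLin F hF h
    simp only [← primeOf_asIdeal] at h1
    exact h1
  IsLocalizedModule.iso (primeOf h).asIdeal.primeCompl (specLin F h)

/-- The stalk at a generization is nonzero iff the corresponding prime is in the support of the
stalk. -/
theorem nontrivial_iff (F : X.Modules) (hF : Coh.IsQCoh F) {x ξ : X} (h : ξ ⤳ x) :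
    Nontrivial (F.presheaf.stalk ξ) ↔
      primeOf h ∈ Module.support (X.presheaf.stalk x) (F.presheaf.stalk x) := by
  letI := specMod F h
  rw [Module.mem_support_iff]
  exact (stalkLocEquiv F hF h).symm.toEquiv.nontrivial_congr

/-- A generization is associated iff its prime is associated to the stalk. -/
theorem mem_ass_iff [IsLocallyNoetherian X] (F : X.Modules) (hF : Coh.IsQCoh F) {x ξ : X}
    (h : ξ ⤳ x) :
    ξ ∈ AssSch.Ass F ↔
      (primeOf h).asIdeal ∈ associatedPrimes (X.presheaf.stalk x) (F.presheaf.stalk x) := by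
  letI := specMod F h
  letI := specAlg h
  haveI := StalkLoc.isScalarTower F h
  haveI := isLocalization_stalkSpecializes h
  haveI := isLocalizedModule_specLin F hF h
  have h1 := Module.associatedPrimes.preimage_comap_associatedPrimes_eq_associatedPrimes_of_isLocalizedModule
    (RingHom.ker (Cyc.specMap x ξ h)).primeCompl (X.presheaf.stalk ξ) (specLin F h)
  have h2 : maximalIdeal (X.presheaf.stalk ξ) ∈
      (Ideal.comap (algebraMap (X.presheaf.stalk x) (X.presheaf.stalk ξ))) ⁻¹'
        (associatedPrimes (X.presheaf.stalk x) (F.presheaf.stalk x)) ↔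
      maximalIdeal (X.presheaf.stalk ξ) ∈
        associatedPrimes (X.presheaf.stalk ξ) (F.presheaf.stalk ξ) := by rw [h1]
  exact h2.symm

theorem mem_ass_ptOf_iff [IsLocallyNoetherian X] (F : X.Modules) (hF : Coh.IsQCoh F) {x : X}
    (P : PrimeSpectrum (X.presheaf.stalk x)) :
    ptOf P ∈ AssSch.Ass F ↔
      P.asIdeal ∈ associatedPrimes (X.presheaf.stalk x) (F.presheaf.stalk x) := by
  rw [mem_ass_iff F hF (ptOf_specializes P), primeOf_ptOf]

/-- An associated point lies in the support. -/
theorem nontrivial_of_mem_ass {F : X.Modules} {x : X} (h : x ∈ AssSch.Ass F) :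
    Nontrivial (F.presheaf.stalk x) := by
  by_contra hn
  rw [not_nontrivial_iff_subsingleton] at hn
  have h' : maximalIdeal (X.presheaf.stalk x) ∈
    associatedPrimes (X.presheaf.stalk x) (F.presheaf.stalk x) := h
  rw [associatedPrimes.eq_empty_of_subsingleton] at h'
  exact h'

/-- Every point of the support is a specialization of an associated point. -/
theorem exists_mem_ass [IsLocallyNoetherian X] (F : X.Modules) (hF : Coh.IsQCoh F) {x : X}
    (hx : Nontrivial (F.presheaf.stalk x)) : ∃ y ∈ AssSch.Ass F, y ⤳ x := by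
  obtain ⟨P, hP⟩ := associatedPrimes.nonempty (X.presheaf.stalk x) (F.presheaf.stalk x)
  let p : PrimeSpectrum (X.presheaf.stalk x) := ⟨P, hP.isPrime⟩
  exact ⟨ptOf p, (mem_ass_ptOf_iff F hF p).mpr hP, ptOf_specializes p⟩

theorem nontrivial_of_specializes (F : X.Modules) (hF : Coh.IsQCoh F) {x y : X} (h : y ⤳ x)
    (hy : Nontrivial (F.presheaf.stalk y)) : Nontrivial (F.presheaf.stalk x) := by
  rw [nontrivial_iff F hF h, Module.mem_support_iff] at hy
  by_contra hn
  rw [not_nontrivial_iff_subsingleton] at hn
  exact not_subsingleton _ (inferInstance : Subsingleton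
    (LocalizedModule (primeOf h).asIdeal.primeCompl (F.presheaf.stalk x)))

end K109.Local
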