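import Groth.Agent.AssSch.K109.TensorT
import Groth.Agent.S2512
import Groth.Agent.S2513

/-!
# `T(x, y) = Spec κ(x) ×_S Spec κ(y)` has no embedded associated points

when `X ×_S Y` is locally Noetherian.
-/

set_option autoImplicit false
set_option linter.style.haveILetI false
universe u

open CategoryTheory CategoryTheory.Limits AlgebraicGeometry IsLocalRing TensorProduct

namespace K109.TensorNoEmb

open Groth.Agent Groth.Agent.Fdesc Groth.Agent.Fdesc.AssFlat K109.FibAss K109.FibNoeth K109.TensorS
  K109.TensorT

variable {X Y S : Scheme.{u}} (f : X ⟶ S) (g : Y ⟶ S) (x : X) (y : Y)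

theorem noEmbedded_T_of_eq [IsLocallyNoetherian (pullback f g)] (h : f x = g y) :
    AssSch.NoEmbedded (Coh.structureModule (T f g x y)) := by
  haveI := isLocallyNoetherian_T f g x y
  let i : Spec (S.residueField (f x)) ⟶ S := S.fromSpecResidueField (f x)
  let α : S.residueField (f x) ⟶ X.residueField x := f.residueFieldMap x
  let β : S.residueField (f x) ⟶ Y.residueField y :=
    (S.residueFieldCongr h).hom ≫ g.residueFieldMap y
  have hα : Spec.map α ≫ i = X.fromSpecResidueField x ≫ f :=
    Scheme.Hom.SpecMap_residueFieldMap_fromSpecResidueField f x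
  have hβ : Spec.map β ≫ i = Y.fromSpecResidueField y ≫ g := by
    have h1 := Scheme.residueFieldCongr_fromSpecResidueField (X := S) h
    have h2 := Scheme.Hom.SpecMap_residueFieldMap_fromSpecResidueField g y
    change Spec.map ((S.residueFieldCongr h).hom ≫ g.residueFieldMap y) ≫ _ = _
    rw [Spec.map_comp, Category.assoc, h1, h2]
  letI : Algebra (S.residueField (f x)) (X.residueField x) := α.hom.toAlgebra
  letI : Algebra (S.residueField (f x)) (Y.residueField y) := β.hom.toAlgebra
  let e1 : T f g x y ≅ pullback (Spec.map α ≫ i) (Spec.map β ≫ i) :=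
    pullback.congrHom hα.symm hβ.symm
  have H : IsPullback (pullback.fst (Spec.map α) (Spec.map β))
      (pullback.snd (Spec.map α) (Spec.map β)) (Spec.map α ≫ i) (Spec.map β ≫ i) :=
    ⟨⟨by rw [← Category.assoc, ← Category.assoc, pullback.condition]⟩,
      ⟨pullbackIsPullbackOfCompMono (Spec.map α) (Spec.map β) i⟩⟩
  let e2 : pullback (Spec.map α ≫ i) (Spec.map β ≫ i) ≅ pullback (Spec.map α) (Spec.map β) :=
    H.isoPullback.symm
  let e3 : pullback (Spec.map α) (Spec.map β) ≅
      Spec (CommRingCat.of (X.residueField x ⊗[S.residueField (f x)] Y.residueField y)) :=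
    pullbackSpecIso (S.residueField (f x)) (X.residueField x) (Y.residueField y)
  haveI : IsNoetherianRing (X.residueField x ⊗[S.residueField (f x)] Y.residueField y) := by
    haveI : IsLocallyNoetherian
        (Spec (CommRingCat.of (X.residueField x ⊗[S.residueField (f x)] Y.residueField y))) :=
      isLocallyNoetherian_of_isOpenImmersion (e1 ≪≫ e2 ≪≫ e3).inv
    exact isLocallyNoetherian_Spec.mp this
  exact S2513.noEmbedded_of_iso _ _ (e1 ≪≫ e2 ≪≫ e3) S2512.result

theorem apply_eq_of_T (t : T f g x y) : f x = g y := by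
  have h1 := fst_jT f g x y t
  have h2 := snd_jT f g x y t
  have h3 : (pullback.fst f g ≫ f) (jT f g x y t) = (pullback.snd f g ≫ g) (jT f g x y t) := by
    rw [pullback.condition]
  have h4 : f (pullback.fst f g (jT f g x y t)) = g (pullback.snd f g (jT f g x y t)) := h3
  rw [h1, h2] at h4
  exact h4

theorem noEmbedded_T [IsLocallyNoetherian (pullback f g)] :
    AssSch.NoEmbedded (Coh.structureModule (T f g x y)) := fun t ht t' ht' h =>
  noEmbedded_T_of_eq f g x y (apply_eq_of_T f g x y t) t ht t' ht' h

theorem jT_specializes_iff (t t' : T f g x y) : jT f g x y t ⤳ jT f g x y t' ↔ t ⤳ t' := by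
  have h1 : ∀ t, jT f g x y t = (pullback.fst f g).fiberι x (aT f g x y t) := fun t => by
    have h3 : (aT f g x y ≫ (pullback.fst f g).fiberι x) t = jT f g x y t := by
      rw [aT_fiberι]
    exact h3.symm
  rw [h1, h1, CycB.FiberKer.specializes_fiberι_iff]
  exact specializes_iff_of_isPullback _ _ (isPullback_aT f g x y) t t'

variable {f g x y}

/-- Two points of `X ×_S Y` in the image of `Ass T(x, y)`, one specializing to the other, are equal. -/
theorem eq_of_mem_image [IsLocallyNoetherian (pullback f g)] {z z' : ↥(pullback f g)}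
    (hz : z ∈ jT f g x y '' AssSch.Ass (Coh.structureModule (T f g x y)))
    (hz' : z' ∈ jT f g x y '' AssSch.Ass (Coh.structureModule (T f g x y)))
    (h : z' ⤳ z) : z = z' := by
  obtain ⟨t, ht, rfl⟩ := hz
  obtain ⟨t', ht', rfl⟩ := hz'
  rw [jT_specializes_iff] at h
  rw [noEmbedded_T f g x y t ht t' ht' h]

end K109.TensorNoEmb
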