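import Groth.Agent.AssSch.K109.FibAss
import Groth.Agent.AssSch.K109.FibNoeth
import Groth.Agent.Fdesc.FlatBC

/-!
# Associated points of `F ⊗_S G` on a fibre product, `G` flat over `S`

`mem_ass_tensorS_iff`: for a cartesian square `P = X ×_S Y` with projections `p`, `q`, a point `z`
of `P` is associated to `p^* F ⊗ q^* G` iff `p z` is associated to `F`, `q z` is associated to the
restriction of `G` to its fibre, and `z` is associated to its fibre for `p⁻¹(p z) → Y`.
-/

set_option autoImplicit false
set_option linter.style.haveILetI false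
universe u

open CategoryTheory CategoryTheory.Limits AlgebraicGeometry TensorProduct IsLocalRing

namespace K109.TensorS

open Groth.Agent Groth.Agent.Fdesc Groth.Agent.Fdesc.AssFlat K109.FibAss K109.FibNoeth

variable {X Y S P : Scheme.{u}} {p : P ⟶ X} {q : P ⟶ Y} {f : X ⟶ S} {g : Y ⟶ S}

/-- The morphism from the fibre of `p` at `x` to the fibre of `g` at `f x`. -/
noncomputable def fibMap (H : IsPullback q p g f) (x : X) : p.fiber x ⟶ g.fiber (f x) :=
  pullback.map _ _ _ _ q (Spec.map (f.residueFieldMap x)) f H.w.symm (by simp)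

theorem isPullback_fibMap (H : IsPullback q p g f) (x : X) :
    IsPullback (fibMap H x) (p.fiberToSpecResidueField x) (g.fiberToSpecResidueField (f x))
      (Spec.map (f.residueFieldMap x)) :=
  isPullback_fiberToSpecResidueField_of_isPullback H x

theorem fibMap_fiberι (H : IsPullback q p g f) (x : X) :
    fibMap H x ≫ g.fiberι (f x) = p.fiberι x ≫ q := pullback.lift_fst _ _ _

theorem flat_fibMap (H : IsPullback q p g f) (x : X) : Flat (fibMap H x) := by
  have h1 : Flat (Spec.map (f.residueFieldMap x)) := by
    haveI : Subsingleton ↥(Spec (S.residueField (f x))) :=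
      inferInstanceAs (Subsingleton (PrimeSpectrum (S.residueField (f x))))
    infer_instance
  exact MorphismProperty.of_isPullback (P := @Flat) (isPullback_fibMap H x).flip h1

theorem fiberι_fibMap_asFiber (H : IsPullback q p g f) (z : P) :
    g.fiberι (f (p z)) (fibMap H (p z) (p.asFiber z)) = q z := by
  have h1 : (fibMap H (p z) ≫ g.fiberι (f (p z))) (p.asFiber z) =
      (p.fiberι (p z) ≫ q) (p.asFiber z) := by rw [fibMap_fiberι]
  have h2 : p.fiberι (p z) (p.asFiber z) = z := Scheme.Hom.fiberι_asFiber p z
  refine h1.trans ?_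
  change q (p.fiberι (p z) (p.asFiber z)) = q z
  rw [h2]

/-- The pull-back of `G` restricted to a fibre of `p` is the pull-back of the restriction of `G` to
the fibre of `g`. -/
noncomputable def restrictIso (H : IsPullback q p g f) (x : X) (G : Y.Modules) :
    (Scheme.Modules.pullback (p.fiberι x)).obj ((Scheme.Modules.pullback q).obj G) ≅
      (Scheme.Modules.pullback (fibMap H x)).obj
        ((Scheme.Modules.pullback (g.fiberι (f x))).obj G) :=
  (Scheme.Modules.pullbackComp (p.fiberι x) q).app G ≪≫
    (Scheme.Modules.pullbackCongr (fibMap_fiberι H x).symm).app G ≪≫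
    ((Scheme.Modules.pullbackComp (fibMap H x) (g.fiberι (f x))).app G).symm

theorem fibAss_pullback_iff [IsLocallyNoetherian P] [IsLocallyNoetherian Y]
    (H : IsPullback q p g f) (G : Y.Modules) (z : P) :
    FibAss p ((Scheme.Modules.pullback q).obj G) z ↔
      FibAss g G (q z) ∧
        FibAss (p.fiberι (p z) ≫ q) (Coh.structureModule (p.fiber (p z))) (p.asFiber z) := by
  haveI := isLocallyNoetherian_fiber p (p z)
  haveI := isLocallyNoetherian_fiber g (f (p z))
  haveI := flat_fibMap H (p z)
  have h1 := mem_Ass_fiber_iff p ((Scheme.Modules.pullback q).obj G) (p z) (p.asFiber z)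
  rw [Scheme.Hom.fiberι_asFiber] at h1
  rw [← h1, mem_ass_of_iso (restrictIso H (p z) G), ← mem_ass_tensor_structure_right,
    mem_Ass_tensor_iff (fibMap H (p z)) _ _ (isFlatOver_structureModule (fibMap H (p z)))]
  refine and_congr ?_ ?_
  · have h2 := mem_Ass_fiber_iff g G (f (p z)) (fibMap H (p z) (p.asFiber z))
    rw [fiberι_fibMap_asFiber] at h2
    exact h2
  · have h3 := fibAss_comp_iff (fibMap H (p z)) (g.fiberι (f (p z)))
      (Coh.structureModule (p.fiber (p z))) (p.asFiber z)
      (CycB.FiberKer.stalkMap_fiberι_surjective g _ _)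
    rw [fibMap_fiberι] at h3
    exact h3.symm

theorem mem_ass_tensorS_iff [IsLocallyNoetherian P] [IsLocallyNoetherian X]
    [IsLocallyNoetherian Y] (H : IsPullback q p g f) (F : X.Modules) (G : Y.Modules)
    (hG : FlatMod.IsFlatOver g G) (z : P) :
    z ∈ AssSch.Ass (CohB1.tensorMod ((Scheme.Modules.pullback p).obj F)
        ((Scheme.Modules.pullback q).obj G)) ↔
      p z ∈ AssSch.Ass F ∧ FibAss g G (q z) ∧
        FibAss (p.fiberι (p z) ≫ q) (Coh.structureModule (p.fiber (p z))) (p.asFiber z) := by
  rw [mem_Ass_tensor_iff p F _ (fun z => FlatBC.isFlatOverAt_pullback H G z (hG _)) z,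
    fibAss_pullback_iff H G z]

end K109.TensorS
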