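import Groth.Agent.AssSch.K109.TensorS

/-!
# The schemes `T(x, y) = Spec κ(x) ×_S Spec κ(y)` inside `X ×_S Y`

`mem_image_iff`: a point `z` of `X ×_S Y` is the image of an associated point of `T(x, y)` iff
`p z = x`, `q z = y` and `z` is associated to its fibre for `p⁻¹(x) → Y`.
-/

set_option autoImplicit false
set_option linter.style.haveILetI false
universe u

open CategoryTheory CategoryTheory.Limits AlgebraicGeometry IsLocalRing

namespace K109.TensorT

open Groth.Agent Groth.Agent.Fdesc Groth.Agent.Fdesc.AssFlat K109.FibAss K109.FibNoeth K109.TensorS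

variable {X Y S : Scheme.{u}} (f : X ⟶ S) (g : Y ⟶ S) (x : X) (y : Y)

/-- `T(x, y) = Spec κ(x) ×_S Spec κ(y)`. -/
noncomputable abbrev T : Scheme.{u} :=
  pullback (X.fromSpecResidueField x ≫ f) (Y.fromSpecResidueField y ≫ g)

/-- The canonical morphism `T(x, y) → X ×_S Y`. -/
noncomputable abbrev jT : T f g x y ⟶ pullback f g :=
  pullback.map (X.fromSpecResidueField x ≫ f) (Y.fromSpecResidueField y ≫ g) f g
    (X.fromSpecResidueField x) (Y.fromSpecResidueField y) (𝟙 S) (Category.comp_id _)
    (Category.comp_id _)

theorem jT_fst : jT f g x y ≫ pullback.fst f g = pullback.fst _ _ ≫ X.fromSpecResidueField x :=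
  pullback.lift_fst _ _ _

theorem jT_snd : jT f g x y ≫ pullback.snd f g = pullback.snd _ _ ≫ Y.fromSpecResidueField y :=
  pullback.lift_snd _ _ _

/-- The morphism `T(x, y) → p⁻¹(x)`. -/
noncomputable def aT : T f g x y ⟶ (pullback.fst f g).fiber x :=
  pullback.lift (jT f g x y) (pullback.fst _ _) (jT_fst f g x y)

theorem aT_fiberι : aT f g x y ≫ (pullback.fst f g).fiberι x = jT f g x y :=
  pullback.lift_fst _ _ _

theorem aT_toSpec : aT f g x y ≫ (pullback.fst f g).fiberToSpecResidueField x =
    pullback.fst _ _ := pullback.lift_snd _ _ _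

theorem isPullback_fiber_snd :
    IsPullback ((pullback.fst f g).fiberι x ≫ pullback.snd f g)
      ((pullback.fst f g).fiberToSpecResidueField x) g (X.fromSpecResidueField x ≫ f) := by
  have h1 : IsPullback ((pullback.fst f g).fiberι x)
      ((pullback.fst f g).fiberToSpecResidueField x) (pullback.fst f g)
      (X.fromSpecResidueField x) := IsPullback.of_hasPullback _ _
  exact h1.paste_horiz (IsPullback.of_hasPullback f g).flip

theorem isPullback_aT :
    IsPullback (aT f g x y) (pullback.snd _ _)
      ((pullback.fst f g).fiberι x ≫ pullback.snd f g) (Y.fromSpecResidueField y) := by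
  have h1 : IsPullback (pullback.snd (X.fromSpecResidueField x ≫ f)
      (Y.fromSpecResidueField y ≫ g)) (aT f g x y ≫ (pullback.fst f g).fiberToSpecResidueField x)
      (Y.fromSpecResidueField y ≫ g) (X.fromSpecResidueField x ≫ f) := by
    rw [aT_toSpec]
    exact (IsPullback.of_hasPullback _ _).flip
  refine (IsPullback.of_bot h1 ?_ (isPullback_fiber_snd f g x)).flip
  rw [← Category.assoc, aT_fiberι, jT_snd]

theorem isLocallyNoetherian_T [IsLocallyNoetherian (pullback f g)] :
    IsLocallyNoetherian (T f g x y) := by
  haveI := isLocallyNoetherian_fiber (pullback.fst f g) x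
  haveI := isLocallyNoetherian_fiber ((pullback.fst f g).fiberι x ≫ pullback.snd f g) y
  let e : T f g x y ≅ ((pullback.fst f g).fiberι x ≫ pullback.snd f g).fiber y :=
    (isPullback_aT f g x y).isoPullback
  exact isLocallyNoetherian_of_isOpenImmersion e.hom

theorem fst_jT (t : T f g x y) : pullback.fst f g (jT f g x y t) = x := by
  have h : pullback.fst f g (jT f g x y t) = X.fromSpecResidueField x
      (pullback.fst (X.fromSpecResidueField x ≫ f) (Y.fromSpecResidueField y ≫ g) t) := by
    rw [← Scheme.Hom.comp_apply, jT_fst, Scheme.Hom.comp_apply]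
  rw [h]
  exact X.fromSpecResidueField_apply x _

theorem snd_jT (t : T f g x y) : pullback.snd f g (jT f g x y t) = y := by
  have h : pullback.snd f g (jT f g x y t) = Y.fromSpecResidueField y
      (pullback.snd (X.fromSpecResidueField x ≫ f) (Y.fromSpecResidueField y ≫ g) t) := by
    rw [← Scheme.Hom.comp_apply, jT_snd, Scheme.Hom.comp_apply]
  rw [h]
  exact Y.fromSpecResidueField_apply y _

variable {f g x y}

theorem mem_image_of (z : ↥(pullback f g))
    (h : FibAss ((pullback.fst f g).fiberι (pullback.fst f g z) ≫ pullback.snd f g)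
      (Coh.structureModule ((pullback.fst f g).fiber (pullback.fst f g z)))
      ((pullback.fst f g).asFiber z)) :
    z ∈ jT f g (pullback.fst f g z) (pullback.snd f g z) ''
      AssSch.Ass (Coh.structureModule (T f g (pullback.fst f g z) (pullback.snd f g z))) := by
  have H := isPullback_aT f g (pullback.fst f g z) (pullback.snd f g z)
  have h2 : (pullback.fst f g).fiberι (pullback.fst f g z) ((pullback.fst f g).asFiber z) = z :=
    Scheme.Hom.fiberι_asFiber _ z
  have h1 : ((pullback.fst f g).fiberι (pullback.fst f g z) ≫ pullback.snd f g)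
      ((pullback.fst f g).asFiber z) = pullback.snd f g z := congrArg (pullback.snd f g) h2
  obtain ⟨t, ht⟩ := exists_of_isPullback _ _ H _ h1
  refine ⟨t, (mem_ass_iff_of_isPullback _ _ H t).mpr (ht ▸ h), ?_⟩
  have h3 : (aT f g (pullback.fst f g z) (pullback.snd f g z) ≫
      (pullback.fst f g).fiberι (pullback.fst f g z)) t = z := by
    refine Eq.trans ?_ h2
    exact congrArg ((pullback.fst f g).fiberι (pullback.fst f g z)) ht
  rw [aT_fiberι] at h3
  exact h3

theorem fibAss_of_mem_image (z : ↥(pullback f g))
    (h : z ∈ jT f g x y '' AssSch.Ass (Coh.structureModule (T f g x y))) :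
    pullback.fst f g z = x ∧ pullback.snd f g z = y ∧
      FibAss ((pullback.fst f g).fiberι (pullback.fst f g z) ≫ pullback.snd f g)
        (Coh.structureModule ((pullback.fst f g).fiber (pullback.fst f g z)))
        ((pullback.fst f g).asFiber z) := by
  obtain ⟨t, ht, rfl⟩ := h
  refine ⟨fst_jT f g x y t, snd_jT f g x y t, ?_⟩
  have H := isPullback_aT f g x y
  have h1 := (mem_ass_iff_of_isPullback _ _ H t).mp ht
  have key : ∀ (x' : X) (hx' : x = x') (w : (pullback.fst f g).fiber x')
      (_ : (pullback.fst f g).fiberι x' w = jT f g x y t),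
      FibAss ((pullback.fst f g).fiberι x' ≫ pullback.snd f g)
        (Coh.structureModule ((pullback.fst f g).fiber x')) w := by
    intro x' hx' w hw
    subst hx'
    have h2 : w = aT f g x y t := by
      apply CycB.FiberKer.fiberι_injective (pullback.fst f g) x
      rw [hw]
      have h3 : (aT f g x y ≫ (pullback.fst f g).fiberι x) t = jT f g x y t := by
        rw [aT_fiberι]
      exact h3.symm
    rw [h2]
    exact h1
  exact key _ (fst_jT f g x y t).symm _ (Scheme.Hom.fiberι_asFiber _ _)

end K109.TensorT
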